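import Cfsg.Agent.Mrg.Omega.EK3.Rank

section


/-!
# THEOREM S'' (helper497 #23971, after helper787 #23621): the digraph argument

Pure group theory.  `O` centralises `ZJ`, `O ≤ D ≤ Y i`, `N i ≤ O` elementary abelian, normal in `Y i`, `Q i = O ⊓ C(N i)`
normal in `Y i`, `(NO)` for `O` on `N i`, `(QP)`: `Y j = K D` for every normal subgroup `K` of `Y j` moving `N j`;
`EE ZJ ⟨Y i : i ∉ Λ⟩` is elementary abelian and in `O` for `Λ ≠ ∅`; no nontrivial subgroup of `O` is normalised by all `Y i`.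
`Sg O Y N g σ` : `g` normalises `O` and permutes the pairs `(Y i, N i)` as `σ`.

* `Fr` : this setting;
* `Rel Y N i j` : `Y j` normalises `N i N j`; `Fr.exists_rel` : **(*)** for all `∅ ≠ Λ ≠ I` there is `j ∉ Λ` with
  `Rel i j` for all `i ∉ Λ`, if the `Sg`-elements are transitive;
* `Fr.not_all` : not all `Rel i j`;
* `Fr.false_of_swap` : **contradiction, if moreover `|I| ≥ 3` and some `Sg`-element acts as a transposition `(a b)`**.
-/

set_option autoImplicit false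
set_option linter.unusedSectionVars false

namespace Cfsg.Agent.Omega.ESym

open Subgroup Cfsg Cfsg.Agent.ZN Cfsg.Agent.ZN.ChoiceBase
open Cfsg.Agent.Omega.NO3S.EThree
open Cfsg.Agent.Omega.NO3S.EThree.ExactA (eab_mono eab_sup eab_iff)
open Cfsg.Agent.Omega.EK3.Rank (NoOn)
open Cfsg.Agent.Omega.EK3.StarE (EE EE_mono norm_EE le_norm_of_cj_le cj_iSup_le)
open scoped commutatorElement

universe u

variable {G : Type u} [Group G]

theorem cj_sup (g : G) (H K : Subgroup G) : cj g (H ⊔ K) = cj g H ⊔ cj g K := Subgroup.map_sup H K _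

/-- **The frame.** -/
structure Fr {ι : Type*} (O D ZJ : Subgroup G) (Y N : ι → Subgroup G) : Prop where
  OD : O ≤ D
  OZ : O ≤ centralizer (ZJ : Set G)
  DY : ∀ i, D ≤ Y i
  eab : ∀ i, IsElementaryAbelian 2 (N i)
  N1 : ∀ i, N i ≠ ⊥
  NO : ∀ i, N i ≤ O
  YN : ∀ i, Y i ≤ normalizer (N i : Set G)
  YQ : ∀ i, Y i ≤ normalizer ((O ⊓ centralizer (N i : Set G) : Subgroup G) : Set G)
  no : ∀ i, NoOn O (N i)
  nl : ∀ U : Subgroup G, U ≤ O → (∀ i, Y i ≤ normalizer (U : Set G)) → U = ⊥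
  qp : ∀ j, ∀ K : Subgroup G, K ≤ Y j → Y j ≤ normalizer (K : Set G) → ¬ K ≤ centralizer (N j : Set G) → Y j ≤ K ⊔ D
  Eeab : ∀ Λ : Set ι, Λ.Nonempty → IsElementaryAbelian 2 (EE ZJ (⨆ i : {i // i ∉ Λ}, Y i))
  EO : ∀ Λ : Set ι, Λ.Nonempty → EE ZJ (⨆ i : {i // i ∉ Λ}, Y i) ≤ O
  NE : ∀ i, N i ≤ EE ZJ (Y i)

/-- `g` permutes the data as `σ`. -/
structure Sg {ι : Type*} (O : Subgroup G) (Y N : ι → Subgroup G) (g : G) (σ : Equiv.Perm ι) : Prop where
  eqO : cj g O = O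
  eqY : ∀ i, cj g (Y i) = Y (σ i)
  eqN : ∀ i, cj g (N i) = N (σ i)

/-- `Y j` normalises `N i N j`. -/
def Rel {ι : Type*} (Y N : ι → Subgroup G) (i j : ι) : Prop := Y j ≤ normalizer ((N i ⊔ N j : Subgroup G) : Set G)

variable {ι : Type*} {O D ZJ : Subgroup G} {Y N : ι → Subgroup G}

theorem Sg.rel {g : G} {σ : Equiv.Perm ι} (s : Sg O Y N g σ) {i j : ι} (h : Rel Y N i j) : Rel Y N (σ i) (σ j) := by
  unfold Rel at *
  rw [← s.eqY, ← s.eqN, ← s.eqN, ← cj_sup, ← cj_normalizer]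
  exact cj_mono g h

namespace Fr

variable (h : Fr O D ZJ Y N)
include h

theorem dt {Λ : Set ι} (hΛ : Λ.Nonempty) : EK3.Lever.Dt O (EE ZJ (⨆ i : {i // i ∉ Λ}, Y i)) ZJ
    (fun i : {i // i ∉ Λ} => Y i) (fun i : {i // i ∉ Λ} => N i) where
  ab := (eab_iff.1 (h.Eeab Λ hΛ)).1
  OY := fun i => h.OD.trans (h.DY i)
  YE := fun i => (le_iSup (fun i : {i // i ∉ Λ} => Y i) i).trans (norm_EE _ _)
  OZ := h.OZ
  gen := le_rfl
  NE := fun i => (h.NE i).trans (EE_mono (le_iSup (fun i : {i // i ∉ Λ} => Y i) i))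
  YN := fun i => h.YN i
  YQ := fun i => h.YQ i
  no := fun i => h.no i

/-- `K = {y ∈ Y j : [E, y] ≤ N j}` is a normal subgroup of `Y j`. -/
theorem rel_of {E : Subgroup G} {j : ι} (hYE : Y j ≤ normalizer (E : Set G)) {F : Subgroup G} (hFO : F ≤ O) (hmv : ¬ F ≤ centralizer (N j : Set G))
    (hc : ∀ e ∈ E, ∀ f ∈ F, ⁅e, f⁆ ∈ N j) {i : ι} (hi : N i ≤ E) : Rel Y N i j := by
  have hn : ∀ y ∈ Y j, ∀ n, n ∈ N j ↔ y * n * y⁻¹ ∈ N j := fun y hy n => mem_normalizer_iff.1 (h.YN j hy) n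
  have hEe : ∀ y ∈ Y j, ∀ n, n ∈ E ↔ y * n * y⁻¹ ∈ E := fun y hy n => mem_normalizer_iff.1 (hYE hy) n
  let K : Subgroup G :=
    { carrier := {y | y ∈ Y j ∧ ∀ e ∈ E, e * y * e⁻¹ * y⁻¹ ∈ N j}
      one_mem' := ⟨one_mem _, fun e _ => by
        have : e * 1 * e⁻¹ * 1⁻¹ = 1 := by group
        rw [this]
        exact one_mem _⟩
      mul_mem' := fun {a b} ha hb => ⟨mul_mem ha.1 hb.1, fun e he => by
        have e1 : e * (a * b) * e⁻¹ * (a * b)⁻¹ = (e * a * e⁻¹ * a⁻¹) * (a * (e * b * e⁻¹ * b⁻¹) * a⁻¹) := by group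
        rw [e1]
        exact mul_mem (ha.2 e he) ((hn a ha.1 _).1 (hb.2 e he))⟩
      inv_mem' := fun {a} ha => ⟨inv_mem ha.1, fun e he => by
        have e1 : e * a⁻¹ * e⁻¹ * (a⁻¹)⁻¹ = a⁻¹ * (a * e * a⁻¹ * e⁻¹) * (a⁻¹)⁻¹ := by group
        have e2 : a * e * a⁻¹ * e⁻¹ = (e * a * e⁻¹ * a⁻¹)⁻¹ := by group
        rw [e1, e2]
        exact (hn _ (inv_mem ha.1) _).1 (inv_mem (ha.2 e he))⟩ }
  have hKY : K ≤ Y j := fun y hy => hy.1
  have hYK : Y j ≤ normalizer (K : Set G) := by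
    refine le_norm_of_cj_le fun y hy => ?_
    rintro _ ⟨k, hk, rfl⟩
    refine ⟨mul_mem (mul_mem hy hk.1) (inv_mem hy), fun e he => ?_⟩
    have h1 : y⁻¹ * e * y ∈ E := by
      have := (hEe _ (inv_mem hy) e).1 he
      rwa [inv_inv] at this
    have e1 : e * (y * k * y⁻¹) * e⁻¹ * (y * k * y⁻¹)⁻¹ =
        y * ((y⁻¹ * e * y) * k * (y⁻¹ * e * y)⁻¹ * k⁻¹) * y⁻¹ := by group
    show e * (y * k * y⁻¹) * e⁻¹ * (y * k * y⁻¹)⁻¹ ∈ N j
    rw [e1]
    exact (hn y hy _).1 (hk.2 _ h1)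
  have hFK : F ≤ K := fun f hf => ⟨(hFO.trans (h.OD.trans (h.DY j))) hf, fun e he => hc e he f hf⟩
  have hY := h.qp j K hKY hYK fun h1 => hmv (hFK.trans h1)
  have hK : K ≤ normalizer ((N i ⊔ N j : Subgroup G) : Set G) := by
    refine le_norm_of_cj_le fun k hk => ?_
    rw [cj_sup]
    refine sup_le ?_ ?_
    · rintro _ ⟨n, hn', rfl⟩
      show k * n * k⁻¹ ∈ _
      have h1 := hk.2 n (hi hn')
      have e1 : k * n * k⁻¹ = (n * k * n⁻¹ * k⁻¹)⁻¹ * n := by group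
      rw [e1]
      exact mul_mem (mem_sup_right (inv_mem h1)) (mem_sup_left hn')
    · refine le_trans ?_ le_sup_right
      exact (cj_eq_of_mem_normalizer (h.YN j (hKY hk))).le
  refine hY.trans (sup_le hK ?_)
  refine le_norm_of_cj_le fun d hd => ?_
  rw [cj_sup, cj_eq_of_mem_normalizer (h.YN i (h.DY i hd)), cj_eq_of_mem_normalizer (h.YN j (h.DY j hd))]

/-- Not all `Rel i j`. -/
theorem not_all [Nonempty ι] : ¬ ∀ i j, Rel Y N i j := by
  intro hall
  have h1 := h.nl (⨆ i, N i) (iSup_le h.NO) fun j => by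
    refine le_norm_of_cj_le fun y hy => ?_
    refine cj_iSup_le fun i => ?_
    have h2 : cj y (N i ⊔ N j) = N i ⊔ N j := cj_eq_of_mem_normalizer (hall i j hy)
    have h3 : cj y (N i) ≤ N i ⊔ N j := by
      rw [← h2]
      exact cj_mono y le_sup_left
    exact h3.trans (sup_le (le_iSup N i) (le_iSup N j))
  obtain ⟨i⟩ := ‹Nonempty ι›
  exact h.N1 i (le_bot_iff.1 ((le_iSup N i).trans h1.le))

variable [Finite G]

/-- If `J(O)` centralises `N i`, then `Y i` normalises `J(O)`. -/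
theorem norm_jj {i : ι} (hi : jj O ≤ centralizer (N i : Set G)) : Y i ≤ normalizer (jj O : Set G) := by
  have e : jj O = jj (O ⊓ centralizer (N i : Set G)) := by
    apply le_antisymm
    · conv_lhs => rw [jj_eq]
      refine sSup_le fun A hA => le_jj ?_
      exact EK3.Rank.mem_inf_of_mem_AA (h.eab i) (h.NO i) (h.no i) hA ((le_jj hA).trans hi)
    · exact EK3.Rank.jj_inf_le (h.eab i) (h.NO i) (h.no i)
  rw [e]
  refine le_norm_of_cj_le fun y hy => ?_
  rw [← jj_cj, cj_eq_of_mem_normalizer (h.YQ i hy)]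

theorem jj_ne [Nonempty ι] : jj O ≠ ⊥ := by
  intro e
  obtain ⟨i⟩ := ‹Nonempty ι›
  obtain ⟨A, hA⟩ := AA_nonempty O
  have h1 : A = ⊥ := le_bot_iff.1 ((le_jj hA).trans e.le)
  have h2 := card_le_mm (h.eab i) (h.NO i)
  rw [mm_eq hA, h1, card_bot] at h2
  exact h.N1 i (Subgroup.card_eq_one.1 (le_antisymm h2 Nat.card_pos))

/-- **(1)** `J(O)` does not centralise `N i`. -/
theorem jj_moves (ht : ∀ i j, ∃ g σ, Sg O Y N g σ ∧ σ i = j) (i : ι) : ¬ jj O ≤ centralizer (N i : Set G) := by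
  intro hi
  have : Nonempty ι := ⟨i⟩
  refine h.jj_ne (h.nl _ (ChoiceBase.jj_le _) fun j => ?_)
  obtain ⟨g, σ, s, rfl⟩ := ht i j
  have h1 := cj_mono g (h.norm_jj hi)
  rwa [s.eqY, cj_normalizer, ← jj_cj, s.eqO] at h1

/-- **(*)** -/
theorem exists_rel (ht : ∀ i j, ∃ g σ, Sg O Y N g σ ∧ σ i = j) {Λ : Set ι} (hΛ : Λ.Nonempty) (hΛ' : Λᶜ.Nonempty) :
    ∃ j, j ∉ Λ ∧ ∀ i, i ∉ Λ → Rel Y N i j := by
  set E := EE ZJ (⨆ i : {i // i ∉ Λ}, Y i) with hE
  obtain ⟨i₀, hi₀⟩ := hΛ'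
  have d := h.dt hΛ
  rw [← hE] at d
  have hNE : ∀ i, i ∉ Λ → N i ≤ E := fun i hi => d.NE ⟨i, hi⟩
  -- a member of `AA(O)` moving `E`
  obtain ⟨A, hA, hmv⟩ : ∃ A ∈ AA O, ¬ A ≤ centralizer (N i₀ : Set G) := by
    by_contra hcon
    push Not at hcon
    refine h.jj_moves ht i₀ ?_
    rw [jj_eq]
    exact sSup_le hcon
  have hYE : O ≤ normalizer (E : Set G) := (d.OY ⟨i₀, hi₀⟩).trans (d.YE ⟨i₀, hi₀⟩)
  have hoff := EK3.Lever.offd_of_AA (h.Eeab Λ hΛ) (h.EO Λ hΛ) hA (hA.2.1.trans hYE)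
    fun hc => hmv (hc.trans (centralizer_le (hNE i₀ hi₀)))
  obtain ⟨j, F, hFO, -, hFm, hFc⟩ := d.lever hA.2.1 hA.1 hoff
  exact ⟨j, j.2, fun i hi => h.rel_of (d.YE j) hFO hFm hFc (hNE i hi)⟩

/-- **THEOREM S''.** -/
theorem false_of_swap [Finite ι] (ht : ∀ i j, ∃ g σ, Sg O Y N g σ ∧ σ i = j) (h3 : ∀ i j : ι, ∃ l, l ≠ i ∧ l ≠ j)
    {a b : ι} (hab : a ≠ b) {g : G} {σ : Equiv.Perm ι} (s : Sg O Y N g σ) (sa : σ a = b) (sb : σ b = a)
    (so : ∀ i, i ≠ a → i ≠ b → σ i = i) : False := by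
  classical
  have : Nonempty ι := ⟨a⟩
  -- every `j` has some `l` with not `Rel l j`
  obtain ⟨i₀, j₀, hij⟩ : ∃ i j, ¬ Rel Y N i j := by
    by_contra hcon
    push Not at hcon
    exact h.not_all hcon
  have hD : ∀ j, ∃ l, ¬ Rel Y N l j := by
    intro j
    obtain ⟨g', τ, s', rfl⟩ := ht j j₀
    refine ⟨τ.symm i₀, fun hr => hij ?_⟩
    have := s'.rel hr
    rwa [Equiv.apply_symm_apply] at this
  -- `(*)` for `{l}`
  have h1 : ∀ l, ∃ j, j ≠ l ∧ (∀ i, i ≠ l → Rel Y N i j) ∧ ¬ Rel Y N l j := by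
    intro l
    obtain ⟨m, hm, -⟩ := h3 l l
    obtain ⟨j, hj, hr⟩ := h.exists_rel ht (Λ := {l}) ⟨l, rfl⟩ ⟨m, hm⟩
    refine ⟨j, hj, hr, ?_⟩
    obtain ⟨l', hl'⟩ := hD j
    by_cases e : l' = l
    · rwa [e] at hl'
    · exact absurd (hr l' e) hl'
  choose f hf1 hf2 hf3 using h1
  -- `f` is injective, so surjective
  have hinj : Function.Injective f := by
    intro l l' e
    by_contra hne
    have := hf2 l' l hne
    rw [← e] at this
    exact hf3 l this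
  have hsur := Finite.surjective_of_injective hinj
  -- uniqueness
  have huniq : ∀ l j, ¬ Rel Y N l j → j = f l := by
    intro l j hr
    obtain ⟨l', rfl⟩ := hsur j
    by_contra hne
    have hll : l ≠ l' := fun e => hne (by rw [e])
    exact hr (hf2 l' l hll)
  -- `f` commutes with `σ`
  have hcomm : ∀ l, f (σ l) = σ (f l) := by
    intro l
    symm
    apply huniq
    intro hr
    apply hf3 l
    -- apply `σ⁻¹`: use that `σ` is an involution
    have hσσ : ∀ i, σ (σ i) = i := by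
      intro i
      by_cases ha : i = a
      · rw [ha, sa, sb]
      · by_cases hb : i = b
        · rw [hb, sb, sa]
        · rw [so i ha hb, so i ha hb]
    have := s.rel hr
    rwa [hσσ, hσσ] at this
  -- `f a = b` and `f b = a`
  have key : ∀ x y : ι, ((x = a ∧ y = b) ∨ (x = b ∧ y = a)) → f x = y := by
    intro x y hxy
    by_contra hne
    have hx : f x ≠ x := hf1 x
    have hfa : f x ≠ a := by
      rcases hxy with ⟨rfl, rfl⟩ | ⟨rfl, rfl⟩
      · exact hx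
      · exact hne
    have hfb : f x ≠ b := by
      rcases hxy with ⟨rfl, rfl⟩ | ⟨rfl, rfl⟩
      · exact hne
      · exact hx
    have h4 := hcomm x
    rw [so _ hfa hfb] at h4
    have h5 := hinj h4
    rcases hxy with ⟨rfl, rfl⟩ | ⟨rfl, rfl⟩
    · rw [sa] at h5; exact hab h5.symm
    · rw [sb] at h5; exact hab h5
  have hfa := key a b (Or.inl ⟨rfl, rfl⟩)
  have hfb := key b a (Or.inr ⟨rfl, rfl⟩)
  -- `(*)` for the complement of `{a, b}`
  obtain ⟨c, hca, hcb⟩ := h3 a b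
  obtain ⟨j, hj, hr⟩ := h.exists_rel ht (Λ := {i | i ≠ a ∧ i ≠ b}) ⟨c, hca, hcb⟩ ⟨a, fun h => h.1 rfl⟩
  have hj' : j = a ∨ j = b := by
    by_contra hcon
    push Not at hcon
    exact hj hcon
  rcases hj' with rfl | rfl
  · have := hf3 b
    rw [hfb] at this
    exact this (hr b fun h => h.2 rfl)
  · have := hf3 a
    rw [hfa] at this
    exact this (hr a fun h => h.1 rfl)

end Fr

end Cfsg.Agent.Omega.ESym

end

section


/-!
# THEOREM U (helper23 #24127), parts (1) and (2)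

Frame `ESym.Fr` of THEOREM S'' (`Omega/ESym/Digraph.lean`), with `D` normalising `O`, `N i ≤ C(N j)`, at least three
indices, and `[ZJ, Y i] ≤ N i`.  NO transitivity.

* `Sg.inv`, `Sg.mul`;
* `exists_aa` : **(1)** some `A ∈ AA(O)` centralises all `N i` and moves `E_{lm} = ⟨ZJ^⟨Y l, Y m⟩⟩`, `l ≠ m`;
* `no_swap` : **(2)** for such `l, m` no `Sg`-element acts as the transposition `(l m)`;
* `main` : both;
* `le_of_syl` : (2) in group-theoretic form: `B ∈ Syl₂(X)` for every `X ≤ C(z n)`, `n ≠ l, m`.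
-/

set_option autoImplicit false
set_option linter.unusedSectionVars false

namespace Cfsg.Agent.Omega.ESym.ThU

open Subgroup Cfsg Cfsg.Agent.ZN Cfsg.Agent.ZN.ChoiceBase
open Cfsg.Agent.Omega.ESym
open Cfsg.Agent.Omega.NO3S.EThree
open Cfsg.Agent.Omega.NO3S.EThree.ExactA (eab_mono eab_sup eab_iff)
open Cfsg.Agent.Omega.EK3.Rank (NoOn)
open Cfsg.Agent.Omega.EK3.StarE (EE EE_mono EE_le cj_le_EE le_EE norm_EE le_norm_of_cj_le cj_iSup_le)
open scoped commutatorElement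

universe u

variable {G : Type u} [Group G] {ι : Type*} {O D ZJ : Subgroup G} {Y N : ι → Subgroup G}

theorem sg_inv {g : G} {σ : Equiv.Perm ι} (s : Sg O Y N g σ) : Sg O Y N g⁻¹ σ⁻¹ where
  eqO := by
    conv_lhs => rw [← s.eqO]
    exact cj_inv_cj g O
  eqY := fun l => by
    have := s.eqY (σ⁻¹ l)
    rw [CoreS.inv_r σ l] at this
    rw [← this, cj_inv_cj]
  eqN := fun l => by
    have := s.eqN (σ⁻¹ l)
    rw [CoreS.inv_r σ l] at this
    rw [← this, cj_inv_cj]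

theorem sg_mul {g g' : G} {σ τ : Equiv.Perm ι} (s : Sg O Y N g σ) (t : Sg O Y N g' τ) :
    Sg O Y N (g * g') (σ * τ) where
  eqO := by rw [← cj_cj, t.eqO, s.eqO]
  eqY := fun l => by rw [← cj_cj, t.eqY, s.eqY]; rfl
  eqN := fun l => by rw [← cj_cj, t.eqN, s.eqN]; rfl

/-- the `Sg`-orbit of `l` -/
def Orb (O : Subgroup G) (Y N : ι → Subgroup G) (l : ι) : Set ι := {i | ∃ g σ, Sg O Y N g σ ∧ σ l = i}

theorem self_orb (l : ι) : l ∈ Orb O Y N l :=
  ⟨1, 1, ⟨cj_one _, fun i => by rw [cj_one]; rfl, fun i => by rw [cj_one]; rfl⟩, rfl⟩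

theorem orb_orb {l i j : ι} (hi : i ∈ Orb O Y N l) (hj : j ∈ Orb O Y N l) :
    ∃ g σ, Sg O Y N g σ ∧ σ i = j := by
  obtain ⟨g, σ, s, rfl⟩ := hi
  obtain ⟨g', τ, t, rfl⟩ := hj
  exact ⟨_, _, sg_mul t (sg_inv s), by simp⟩

theorem mem_orb {l i : ι} (hi : i ∈ Orb O Y N l) {g : G} {σ : Equiv.Perm ι} (s : Sg O Y N g σ) :
    σ i ∈ Orb O Y N l := by
  obtain ⟨g', τ, t, rfl⟩ := hi
  exact ⟨_, _, sg_mul s t, rfl⟩

theorem iSup_pair {l m : ι} (hlm : l ≠ m) :
    (⨆ i : {i // i ∉ ({i | i ≠ l ∧ i ≠ m} : Set ι)}, Y i) = Y l ⊔ Y m := by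
  apply le_antisymm
  · refine iSup_le fun i => ?_
    have : (i : ι) = l ∨ (i : ι) = m := by
      by_contra hcon
      push Not at hcon
      exact i.2 hcon
    rcases this with e | e
    · rw [e]; exact le_sup_left
    · rw [e]; exact le_sup_right
  · refine sup_le ?_ ?_
    · exact le_iSup (fun i : {i // i ∉ ({i | i ≠ l ∧ i ≠ m} : Set ι)} => Y i) ⟨l, fun h => h.1 rfl⟩
    · exact le_iSup (fun i : {i // i ∉ ({i | i ≠ l ∧ i ≠ m} : Set ι)} => Y i) ⟨m, fun h => h.2 rfl⟩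

section main

variable (h : ESym.Fr O D ZJ Y N) (DO : D ≤ normalizer (O : Set G)) (NN : ∀ i j, N i ≤ centralizer (N j : Set G))
  (h3 : ∀ i j : ι, ∃ l, l ≠ i ∧ l ≠ j)
include h

include h3 in
theorem eab_pair {l m : ι} (hlm : l ≠ m) : IsElementaryAbelian 2 (EE ZJ (Y l ⊔ Y m)) := by
  obtain ⟨n, hn1, hn2⟩ := h3 l m
  have := h.Eeab {i | i ≠ l ∧ i ≠ m} ⟨n, hn1, hn2⟩
  rwa [iSup_pair hlm] at this

include h3 in
theorem le_pair {l m : ι} (hlm : l ≠ m) : EE ZJ (Y l ⊔ Y m) ≤ O := by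
  obtain ⟨n, hn1, hn2⟩ := h3 l m
  have := h.EO {i | i ≠ l ∧ i ≠ m} ⟨n, hn1, hn2⟩
  rwa [iSup_pair hlm] at this

include DO NN h3 in
/-- The frame of STAR (with `L = Y`). -/
theorem star : EK3.StarE.Fr O D ZJ Y N Y where
  OD := h.OD
  DO := DO
  OZ := h.OZ
  DY := h.DY
  LY := fun _ => le_rfl
  YDL := fun _ => le_sup_right
  eab := h.eab
  NQ := fun i j => le_inf (h.NO i) (NN i j)
  YN := h.YN
  YQ := h.YQ
  no := h.no
  nl := fun U hU _ hY => h.nl U hU hY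
  Eeab := fun _ _ => eab_pair h h3
  EO := fun _ _ => le_pair h h3
  NE := h.NE

variable [Finite G]

include DO NN h3 in
/-- **(1)** -/
theorem exists_aa [Finite ι] (hO : O ≠ ⊥) : ∃ A ∈ AA O, (∀ i, A ≤ centralizer (N i : Set G)) ∧
    ∃ l m, l ≠ m ∧ ¬ A ≤ centralizer (EE ZJ (Y l ⊔ Y m) : Set G) := by
  obtain ⟨A, hA, hl, i, j, hij, x, hx, hmv⟩ := (star h DO NN h3).aa_star hO
  refine ⟨A, hA, hl, i, j, hij, fun hc => hmv ?_⟩
  have h1 : cj x A ≤ cj x (centralizer (EE ZJ (Y i ⊔ Y j) : Set G)) := cj_mono x hc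
  rw [cj_centralizer, cj_eq_of_mem_normalizer (norm_EE ZJ (Y i ⊔ Y j) (le_sup_left (a := Y i) (b := Y j) hx))] at h1
  exact h1.trans (centralizer_le ((h.NE j).trans (EE_mono le_sup_right)))

/-- (b), (c) for a proper set of indices: -/
theorem rel_of_mover {Λ : Set ι} (hΛ : Λ.Nonempty) (hΛ' : Λᶜ.Nonempty) {A : Subgroup G} (hA : A ∈ AA O)
    (hmv : ¬ A ≤ centralizer (EE ZJ (⨆ i : {i // i ∉ Λ}, Y i) : Set G)) :
    ∃ j, j ∉ Λ ∧ ∀ i, i ∉ Λ → Rel Y N i j := by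
  set E := EE ZJ (⨆ i : {i // i ∉ Λ}, Y i) with hE
  obtain ⟨i₀, hi₀⟩ := hΛ'
  have d := h.dt hΛ
  rw [← hE] at d
  have hNE : ∀ i, i ∉ Λ → N i ≤ E := fun i hi => d.NE ⟨i, hi⟩
  have hYE : O ≤ normalizer (E : Set G) := (d.OY ⟨i₀, hi₀⟩).trans (d.YE ⟨i₀, hi₀⟩)
  have hoff := EK3.Lever.offd_of_AA (h.Eeab Λ hΛ) (h.EO Λ hΛ) hA (hA.2.1.trans hYE) hmv
  obtain ⟨j, F, hFO, -, hFm, hFc⟩ := d.lever hA.2.1 hA.1 hoff
  exact ⟨j, j.2, fun i hi => h.rel_of (d.YE j) hFO hFm hFc (hNE i hi)⟩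

omit [Finite G] in
/-- If `Y l` and `Y m` normalise `N l N m`, then `E_{lm} = N l N m ZJ`. -/
theorem EE_le_of_rel (ZY : ∀ i, ∀ y ∈ Y i, ∀ z ∈ ZJ, y * z * y⁻¹ ∈ N i ⊔ ZJ) {l m : ι} (h1 : Rel Y N l m)
    (h2 : Rel Y N m l) : EE ZJ (Y l ⊔ Y m) ≤ N l ⊔ N m ⊔ ZJ := by
  have hl : Y l ≤ normalizer ((N l ⊔ N m ⊔ ZJ : Subgroup G) : Set G) := le_norm_of_cj_le fun y hy => by
    rw [cj_sup]
    refine sup_le ?_ ?_
    · have h2' : Y l ≤ normalizer ((N l ⊔ N m : Subgroup G) : Set G) := by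
        unfold Rel at h2
        rwa [sup_comm (N m) (N l)] at h2
      rw [cj_eq_of_mem_normalizer (h2' hy)]
      exact le_sup_left
    · rintro _ ⟨z, hz, rfl⟩
      exact (sup_le_sup_right le_sup_left ZJ : N l ⊔ ZJ ≤ N l ⊔ N m ⊔ ZJ) (ZY l y hy z hz)
  have hm : Y m ≤ normalizer ((N l ⊔ N m ⊔ ZJ : Subgroup G) : Set G) := le_norm_of_cj_le fun y hy => by
    rw [cj_sup]
    refine sup_le ?_ ?_
    · rw [cj_eq_of_mem_normalizer (h1 hy)]
      exact le_sup_left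
    · rintro _ ⟨z, hz, rfl⟩
      exact (sup_le_sup_right le_sup_right ZJ : N m ⊔ ZJ ≤ N l ⊔ N m ⊔ ZJ) (ZY m y hy z hz)
  refine EE_le fun y hy => ?_
  have h4 := cj_mono y (le_sup_right (a := N l ⊔ N m) (b := ZJ))
  rwa [cj_eq_of_mem_normalizer (sup_le hl hm hy)] at h4

include h3 in
/-- **(2)** no element acts as the transposition `(l m)`. -/
theorem no_swap [Finite ι] (ZY : ∀ i, ∀ y ∈ Y i, ∀ z ∈ ZJ, y * z * y⁻¹ ∈ N i ⊔ ZJ) {A : Subgroup G} (hA : A ∈ AA O)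
    (hAN : ∀ i, A ≤ centralizer (N i : Set G)) {l m : ι} (hlm : l ≠ m)
    (hmv : ¬ A ≤ centralizer (EE ZJ (Y l ⊔ Y m) : Set G)) {g : G} {σ : Equiv.Perm ι} (s : Sg O Y N g σ)
    (sl : σ l = m) (sm : σ m = l) (so : ∀ i, i ≠ l → i ≠ m → σ i = i) : False := by
  by_cases hc : ∀ i, i ∈ Orb O Y N l
  · exact h.false_of_swap (fun i j => orb_orb (hc i) (hc j)) h3 hlm s sl sm so
  push Not at hc
  obtain ⟨n, hn⟩ := hc
  have hl : l ∈ Orb O Y N l := self_orb l
  have hm : m ∈ Orb O Y N l := ⟨g, σ, s, sl⟩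
  have hle : Y l ⊔ Y m ≤ ⨆ i : {i // i ∉ (Orb O Y N l)ᶜ}, Y i := by
    refine sup_le ?_ ?_
    · exact le_iSup (fun i : {i // i ∉ (Orb O Y N l)ᶜ} => Y i) ⟨l, fun h => h hl⟩
    · exact le_iSup (fun i : {i // i ∉ (Orb O Y N l)ᶜ} => Y i) ⟨m, fun h => h hm⟩
  obtain ⟨j, hj, hr⟩ := rel_of_mover h (Λ := (Orb O Y N l)ᶜ) ⟨n, hn⟩ ⟨l, fun h => h hl⟩ hA
    fun hc => hmv (hc.trans (centralizer_le (EE_mono hle)))
  rw [Set.notMem_compl_iff] at hj
  have hall : ∀ i ∈ Orb O Y N l, ∀ k ∈ Orb O Y N l, Rel Y N i k := by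
    intro i hi k hk
    obtain ⟨g', τ, t, rfl⟩ := orb_orb hj hk
    have h5 : τ⁻¹ i ∈ Orb O Y N l := mem_orb hi (sg_inv t)
    have h6 := t.rel (hr (τ⁻¹ i) fun h => h h5)
    rwa [CoreS.inv_r τ i] at h6
  refine hmv ?_
  have h7 := EE_le_of_rel h ZY (hall l hl m hm) (hall m hm l hl)
  have h8 : A ≤ centralizer (((N l ⊔ N m ⊔ ZJ : Subgroup G)) : Set G) := by
    rw [Subgroup.le_centralizer_iff]
    refine sup_le (sup_le ?_ ?_) ?_
    · exact Subgroup.le_centralizer_iff.1 (hAN l)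
    · exact Subgroup.le_centralizer_iff.1 (hAN m)
    · exact Subgroup.le_centralizer_iff.1 (hA.2.1.trans h.OZ)
  exact h8.trans (centralizer_le h7)

include DO NN h3 in
/-- **THEOREM U, (1) and (2).** -/
theorem main [Finite ι] (hO : O ≠ ⊥) (ZY : ∀ i, ∀ y ∈ Y i, ∀ z ∈ ZJ, y * z * y⁻¹ ∈ N i ⊔ ZJ) :
    ∃ A ∈ AA O, (∀ i, A ≤ centralizer (N i : Set G)) ∧
      ∃ l m, l ≠ m ∧ ¬ A ≤ centralizer (EE ZJ (Y l ⊔ Y m) : Set G) ∧
        ∀ (g : G) (σ : Equiv.Perm ι), Sg O Y N g σ → σ l = m → σ m = l → (∀ i, i ≠ l → i ≠ m → σ i = i) → False := by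
  obtain ⟨A, hA, hAN, l, m, hlm, hmv⟩ := exists_aa h DO NN h3 hO
  exact ⟨A, hA, hAN, l, m, hlm, hmv, fun _ _ s sl sm so => no_swap h h3 ZY hA hAN hlm hmv s sl sm so⟩

end main

/-- (2), group form: `B` is a maximal 2-subgroup of `X`, if `B` is one of `D`, `N_G(B)` permutes the `z n` by `Sg`-elements and
an element fixing all `z n` is in `D`. -/
theorem le_of_syl [Finite G] [Finite ι] {B X : Subgroup G} {z : ι → Subgroup G} {l m : ι} (hlm : l ≠ m)
    (hperm : ∀ g ∈ normalizer (B : Set G), ∃ σ : Equiv.Perm ι, Sg O Y N g σ ∧ ∀ n, cj g (z n) = z (σ n))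
    (hinj : Function.Injective z)
    (hfix : ∀ g ∈ X, ∀ n, n ≠ l → n ≠ m → cj g (z n) = z n)
    (hD : ∀ g ∈ X, g ∈ normalizer (B : Set G) → (∀ n, cj g (z n) = z n) → g ∈ D)
    (syl : ∀ R : Subgroup G, R ≤ D → IsPGroup 2 R → B ≤ R → R ≤ B)
    (hns : ∀ (g : G) (σ : Equiv.Perm ι), Sg O Y N g σ → σ l = m → σ m = l → (∀ i, i ≠ l → i ≠ m → σ i = i) → False)
    {R : Subgroup G} (hRX : R ≤ X) (hR : IsPGroup 2 R) (hBR : B ≤ R) : R ≤ B := by
  have : Fact (Nat.Prime 2) := ⟨Nat.prime_two⟩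
  have key : R ⊓ normalizer (B : Set G) ≤ D := by
    intro g hg
    obtain ⟨σ, s, hz⟩ := hperm g hg.2
    have hf : ∀ n, n ≠ l → n ≠ m → σ n = n := fun n h1 h2 => hinj (by rw [← hz, hfix g (hRX hg.1) n h1 h2])
    have hlm' : σ l = l ∨ σ l = m := by
      by_contra hcon
      push Not at hcon
      have := hf (σ l) hcon.1 hcon.2
      exact hcon.1 (σ.injective this)
    rcases hlm' with e | e
    · have em : σ m = m := by
        by_contra hne
        have h1 : σ m ≠ l := fun h2 => hlm (σ.injective (e.trans h2.symm))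
        have := hf (σ m) h1 hne
        exact hne (σ.injective this)
      refine hD g (hRX hg.1) hg.2 fun n => ?_
      rw [hz]
      by_cases h1 : n = l
      · rw [h1, e]
      by_cases h2 : n = m
      · rw [h2, em]
      rw [hf n h1 h2]
    · have em : σ m = l := by
        by_contra hne
        have h1 : σ m ≠ m := fun h2 => hlm (σ.injective (e.trans h2.symm))
        have := hf (σ m) hne h1
        exact h1 (σ.injective this)
      exact (hns g σ s e em hf).elim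
  have h1 : R ⊓ normalizer (B : Set G) ≤ B :=
    syl _ key (hR.to_le inf_le_left) (le_inf hBR Subgroup.le_normalizer)
  -- normalisers grow in `R`
  by_contra hne
  have hlt : B < R := lt_of_le_of_ne hBR fun e => hne (by rw [← e])
  have hlt' : B.subgroupOf R < ⊤ := by
    rw [lt_top_iff_ne_top]
    intro e
    exact hne (Subgroup.subgroupOf_eq_top.1 e)
  have hnil : Group.IsNilpotent R := hR.isNilpotent
  have hnc := Group.normalizerCondition_of_isNilpotent (G := R) (B.subgroupOf R) hlt'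
  obtain ⟨x, hx, hxn⟩ := Set.exists_of_ssubset hnc
  refine hxn ?_
  have hxn' : (x : G) ∈ normalizer (B : Set G) := by
    rw [SetLike.mem_coe, mem_normalizer_iff] at hx
    rw [mem_normalizer_iff]
    intro y
    constructor
    · intro hy
      have := (hx ⟨y, hBR hy⟩).1 hy
      exact this
    · intro hy
      have hyR : y ∈ R := by
        have := hBR hy
        have h2 := mul_mem (mul_mem (inv_mem x.2) this) x.2
        have e : (x : G)⁻¹ * ((x : G) * y * (x : G)⁻¹) * x = y := by group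
        rwa [e] at h2
      exact (hx ⟨y, hyR⟩).2 hy
  exact h1 ⟨x.2, hxn'⟩

end Cfsg.Agent.Omega.ESym.ThU

end

section


/-!
# THEOREM S''T: THEOREM S'' without the hypothesis `sw`

* `Cr` : the hypotheses of `Core` without `sw`;
* **`Cr.local_or`** : some nontrivial 2-group is normalised by all the `Y j`, or some permutation `τ` of the indices, one
  cycle, commutes with all symmetries;
* `eq_of_fix`, `comm_of` : then a symmetry with a fixed point is trivial, and all symmetries commute.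
-/

set_option autoImplicit false
set_option linter.unusedSectionVars false

namespace Cfsg.Agent.Omega.ESym.CoreT

open Subgroup Cfsg Cfsg.Agent.ZN Cfsg.Agent.ZN.ChoiceBase
open Cfsg.Agent.Omega.NO3S.EThree
open Cfsg.Agent.Omega.NO3S.EThree.ExactA (eab_mono eab_sup eab_iff)
open Cfsg.Agent.Omega.EK3.Rank (NoOn mem_inf_of_mem_AA jj_inf_le offd_of_mem)
open Cfsg.Agent.Omega.EK3.Lever (Dt)
open Cfsg.Agent.Omega.ESym.CoreS
open scoped commutatorElement

universe u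

variable {G : Type u} [Group G]

/-- **The hypotheses of THEOREM S''T.** -/
structure Cr {ι : Type*} (O D ZJ : Subgroup G) (Y N : ι → Subgroup G) : Prop where
  two : IsPGroup 2 O
  OY : ∀ i, O ≤ Y i
  OZ : O ≤ centralizer (ZJ : Set G)
  DY : ∀ i, D ≤ Y i
  /-- at least three light pairs -/
  three : ∀ i j : ι, ∃ l, l ≠ i ∧ l ≠ j
  ne : Nonempty ι
  eab : ∀ I : Set ι, I ≠ Set.univ → IsElementaryAbelian 2 (EI ZJ Y I : Subgroup G) ∧ EI ZJ Y I ≤ O
  NE : ∀ i, N i ≤ EI ZJ Y {i}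
  YN : ∀ i, Y i ≤ normalizer (N i : Set G)
  YQ : ∀ i, Y i ≤ normalizer ((O ⊓ centralizer (N i : Set G) : Subgroup G) : Set G)
  no : ∀ i, NoOn O (N i)
  gen : ∀ j, ∀ K : Subgroup G, K ≤ Y j → Y j ≤ normalizer (K : Set G) → ¬ K ⊓ O ≤ centralizer (N j : Set G) →
    Y j ≤ K ⊔ D
  tr : ∀ i j, ∃ g, ∃ σ : Equiv.Perm ι, Sy O Y N g σ ∧ σ i = j

section core

variable [Finite G] {ι : Type*} {O D ZJ : Subgroup G} {Y N : ι → Subgroup G} (h : Cr O D ZJ Y N)
include h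

theorem Cr.N_le_EI {I : Set ι} {i : ι} (hi : i ∈ I) : N i ≤ EI ZJ Y I :=
  (h.NE i).trans (EI_mono (Set.singleton_subset_iff.2 hi))

theorem Cr.ne_univ (i : ι) : ({i} : Set ι) ≠ Set.univ := by
  obtain ⟨l, hl, -⟩ := h.three i i
  intro e
  have : l ∈ ({i} : Set ι) := e ▸ Set.mem_univ l
  exact hl this

theorem Cr.N_eab (i : ι) : IsElementaryAbelian 2 (N i : Subgroup G) :=
  eab_mono (h.eab _ (h.ne_univ i)).1 (h.NE i)

theorem Cr.N_le_O (i : ι) : N i ≤ O := (h.NE i).trans (h.eab _ (h.ne_univ i)).2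

/-- (1) either the conclusion, or `J(O)` moves every `N j` -/
theorem Cr.moves (hO : O ≠ ⊥) :
    (∃ R : Subgroup G, R ≠ ⊥ ∧ IsPGroup 2 R ∧ ∀ j, Y j ≤ normalizer (R : Set G)) ∨
      ∀ j, ∃ A ∈ AA O, ¬ A ≤ centralizer (N j : Set G) := by
  by_cases hc : ∀ j, ∃ A ∈ AA O, ¬ A ≤ centralizer (N j : Set G)
  · exact Or.inr hc
  left
  push Not at hc
  obtain ⟨j, hj⟩ := hc
  have e : jj O = jj (O ⊓ centralizer (N j : Set G)) := by
    refine le_antisymm ?_ (jj_inf_le (h.N_eab j) (h.N_le_O j) (h.no j))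
    rw [ChoiceBase.jj_eq O]
    exact sSup_le fun A hA => ChoiceBase.le_jj (mem_inf_of_mem_AA (h.N_eab j) (h.N_le_O j) (h.no j) hA (hj A hA))
  have h1 : Y j ≤ normalizer (jj O : Set G) := by
    rw [e]
    exact (h.YQ j).trans (jj_norm _)
  refine ⟨jj O, jj_ne_bot h.two hO, h.two.to_le (ChoiceBase.jj_le O), fun i => ?_⟩
  obtain ⟨g, σ, hg, hσ⟩ := h.tr j i
  have h2 := cj_mono g h1
  rwa [hg.Y_eq, hσ, cj_normalizer, ← jj_cj, hg.O_eq] at h2

/-- (2), (3): for every proper nonempty `I` some `j ∈ I` has `Y j ≤ N(N i N j)` for all `i ∈ I`. -/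
theorem Cr.step (hm : ∀ j, ∃ A ∈ AA O, ¬ A ≤ centralizer (N j : Set G)) {I : Set ι} (hI : I ≠ Set.univ)
    (hne : I.Nonempty) : ∃ j ∈ I, ∀ i ∈ I, Y j ≤ normalizer ((N i ⊔ N j : Subgroup G) : Set G) := by
  obtain ⟨j0, hj0⟩ := hne
  obtain ⟨A, hA, hAm⟩ := hm j0
  obtain ⟨hE, hEO⟩ := h.eab I hI
  have hOE : O ≤ normalizer (EI ZJ Y I : Set G) := (h.OY j0).trans (EI_norm hj0)
  have hoff : Offd (EI ZJ Y I) A :=
    offd_of_mem hE hEO hA (hA.2.1.trans hOE) (h.N_le_EI hj0) hAm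
  have hdt : Dt O (EI ZJ Y I) ZJ (fun i : I => Y i) (fun i : I => N i) := by
    refine ⟨(eab_iff.1 hE).1, fun i => h.OY i, fun i => EI_norm i.2, h.OZ, le_rfl, fun i => h.N_le_EI i.2,
      fun i => h.YN i, fun i => h.YQ i, fun i F hF hFO => h.no i F hF hFO⟩
  obtain ⟨j, F, hFO, hFe, hFm, hF⟩ := hdt.lever hA.2.1 hA.1 hoff
  refine ⟨j, j.2, fun i hi => ?_⟩
  -- the normal closure of `F` in `Y j`
  let K : Subgroup G := ⨆ y : Y j, cj (y : G) F
  have hFY : F ≤ Y j := hFO.trans (h.OY j)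
  have hFK : F ≤ K := by
    have := le_iSup (fun y : Y j => cj (y : G) F) 1
    simpa only [OneMemClass.coe_one, cj_one] using this
  have hKY : K ≤ Y j := iSup_le fun y => by
    have := cj_mono (y : G) hFY
    rwa [cj_eq_of_mem_normalizer (Subgroup.le_normalizer y.2)] at this
  have hYK : Y j ≤ normalizer (K : Set G) := by
    intro y hy
    refine mem_norm_of_le ?_
    change cj y (⨆ x : Y j, cj (x : G) F) ≤ _
    rw [cj, Subgroup.map_iSup]
    refine iSup_le fun x => ?_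
    have e : Subgroup.map (MulAut.conj y).toMonoidHom (cj (x : G) F) = cj (y * x : G) F := cj_cj y x F
    rw [e]
    exact le_iSup (fun x : Y j => cj (x : G) F) ⟨y * x, mul_mem hy x.2⟩
  have hKm : ¬ K ⊓ O ≤ centralizer (N j : Set G) := fun hc => hFm ((le_inf hFK hFO).trans hc)
  have hKN : K ≤ normalizer ((N i ⊔ N j : Subgroup G) : Set G) := by
    refine iSup_le fun y => ?_
    intro x hx
    refine mem_norm_of_le ?_
    rw [cj, Subgroup.map_sup]
    have hxY : x ∈ Y j := hKY (le_iSup (fun y : Y j => cj (y : G) F) y hx)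
    refine sup_le ?_ ?_
    · rintro _ ⟨n, hn, rfl⟩
      change x * n * x⁻¹ ∈ _
      -- `x = y f y⁻¹`
      obtain ⟨f, hf, e⟩ := hx
      have e' : x = (y : G) * f * (y : G)⁻¹ := by rw [← e]; rfl
      have hnE : n ∈ EI ZJ Y I := h.N_le_EI hi hn
      have hn' : (y : G)⁻¹ * n * y ∈ EI ZJ Y I := by
        have := (mem_normalizer_iff.1 (EI_norm j.2 (inv_mem y.2)) n).1 hnE
        rwa [inv_inv] at this
      have h1 := hF _ hn' f hf
      have h2 : (y : G) * ⁅(y : G)⁻¹ * n * y, f⁆ * (y : G)⁻¹ ∈ N j :=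
        (mem_normalizer_iff.1 (h.YN j y.2) _).1 h1
      have h3 : ⁅n, x⁆ = (y : G) * ⁅(y : G)⁻¹ * n * y, f⁆ * (y : G)⁻¹ := by
        rw [e']
        simp only [commutatorElement_def]
        group
      have h4 : x * n * x⁻¹ = ⁅n, x⁆⁻¹ * n := by
        simp only [commutatorElement_def]
        group
      rw [h4]
      exact mul_mem (inv_mem (mem_sup_right (by rw [h3]; exact h2))) (mem_sup_left hn)
    · have h1 := cj_eq_of_mem_normalizer (h.YN j hxY)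
      exact (le_of_eq h1).trans le_sup_right
  have hDN : D ≤ normalizer ((N i ⊔ N j : Subgroup G) : Set G) := by
    intro x hx
    refine mem_norm_of_le ?_
    rw [cj, Subgroup.map_sup]
    exact sup_le_sup (cj_eq_of_mem_normalizer (h.YN i (h.DY i hx))).le
      (cj_eq_of_mem_normalizer (h.YN j (h.DY j hx))).le
  exact (h.gen j K hKY hYK hKm).trans (sup_le hKN hDN)


/-- a subgroup normalised by all `Y j` if all pairs are related -/
theorem Cr.all (hm : ∀ j, ∃ A ∈ AA O, ¬ A ≤ centralizer (N j : Set G))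
    (hall : ∀ i k, Y k ≤ normalizer ((N i ⊔ N k : Subgroup G) : Set G)) :
    ∃ R : Subgroup G, R ≠ ⊥ ∧ IsPGroup 2 R ∧ ∀ j, Y j ≤ normalizer (R : Set G) := by
  obtain ⟨l⟩ := h.ne
  refine ⟨⨆ i, N i, ?_, h.two.to_le (iSup_le h.N_le_O), fun k => ?_⟩
  · obtain ⟨A, -, hA⟩ := hm l
    intro e
    apply hA
    have h1 : N l = ⊥ := eq_bot_iff.2 ((le_iSup N l).trans e.le)
    rw [h1]
    intro x _
    rw [mem_centralizer_iff]
    intro y hy
    rw [SetLike.mem_coe, mem_bot] at hy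
    rw [hy, one_mul, mul_one]
  · intro x hx
    refine mem_norm_of_le ?_
    rw [cj, Subgroup.map_iSup]
    refine iSup_le fun i => ?_
    have h1 : cj x (N i) ≤ N i ⊔ N k := by
      refine (cj_mono x (le_sup_left (b := N k))).trans ?_
      exact (cj_eq_of_mem_normalizer (hall i k hx)).le
    exact h1.trans (sup_le (le_iSup N i) (le_iSup N k))

/-- **THEOREM S''T.** -/
theorem Cr.local_or [Finite ι] (hO : O ≠ ⊥) :
    (∃ R : Subgroup G, R ≠ ⊥ ∧ IsPGroup 2 R ∧ ∀ j, Y j ≤ normalizer (R : Set G)) ∨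
      ∃ τ : Equiv.Perm ι, (∀ i j, ∃ n : ℕ, (τ ^ n) i = j) ∧
        ∀ g, ∀ σ : Equiv.Perm ι, Sy O Y N g σ → ∀ i, σ (τ i) = τ (σ i) := by
  rcases h.moves hO with h1 | hm
  · exact Or.inl h1
  set R : ι → ι → Prop := fun j i => Y j ≤ normalizer ((N i ⊔ N j : Subgroup G) : Set G) with hRdef
  have hcj : ∀ {g : G} {σ : Equiv.Perm ι}, Sy O Y N g σ → ∀ {j i}, R j i → R (σ j) (σ i) := by
    intro g σ hg j i hr
    exact hg.conj_rel hr
  have hcj' : ∀ {g : G} {σ : Equiv.Perm ι}, Sy O Y N g σ → ∀ {j i}, R (σ j) (σ i) → R j i := by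
    intro g σ hg j i hr
    have h1 := hcj hg.inv hr
    rwa [inv_l, inv_l] at h1
  have hstep : ∀ {I : Set ι}, I ≠ Set.univ → I.Nonempty → ∃ j ∈ I, ∀ i ∈ I, R j i := fun hI hne => h.step hm hI hne
  by_cases hall : ∀ j i, R j i
  · exact Or.inl (h.all hm fun i k => hall k i)
  right
  push Not at hall
  obtain ⟨j₀, i₀, h0⟩ := hall
  -- every point misses some point
  have f1 : ∀ j, ∃ i, ¬ R j i := by
    intro j
    obtain ⟨g, σ, hg, hσ⟩ := h.tr j₀ j
    refine ⟨σ i₀, fun hr => h0 ?_⟩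
    rw [← hσ] at hr
    exact hcj' hg hr
  -- every point is missed by some point which misses nothing else
  have f2 : ∀ l, ∃ j, ∀ i, i ≠ l → R j i := by
    intro l
    obtain ⟨l', hl', -⟩ := h.three l l
    obtain ⟨j, -, hj⟩ := hstep (I := {l}ᶜ) (fun e => by
      have : l ∈ ({l}ᶜ : Set ι) := e ▸ Set.mem_univ l
      exact this rfl) ⟨l', hl'⟩
    exact ⟨j, fun i hi => hj i hi⟩
  -- uniqueness
  have f3 : ∀ j i i', ¬ R j i → ¬ R j i' → i = i' := by
    intro j i i' hi hi'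
    obtain ⟨l⟩ := h.ne
    obtain ⟨j', hj'⟩ := f2 l
    obtain ⟨g, σ, hg, hσ⟩ := h.tr j' j
    have key : ∀ i, ¬ R j i → σ⁻¹ i = l := by
      intro i hi
      by_contra hne
      apply hi
      have h1 := hcj hg (hj' _ hne)
      rwa [hσ, inv_r σ i] at h1
    have h2 := (key i hi).trans (key i' hi').symm
    exact (σ⁻¹).injective h2
  choose t ht using f1
  have hsurj : Function.Surjective t := by
    intro l
    obtain ⟨j, hj⟩ := f2 l
    refine ⟨j, ?_⟩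
    by_contra hne
    exact ht j (hj _ hne)
  have hbij : Function.Bijective t := Finite.injective_iff_bijective.1 (Finite.injective_iff_surjective.2 hsurj)
  refine ⟨Equiv.ofBijective t hbij, fun i j => ?_, fun g σ hg i => ?_⟩
  · set τ : Equiv.Perm ι := Equiv.ofBijective t hbij with hτ
    have hτt : ∀ i, τ i = t i := fun i => rfl
    by_contra hcon
    push Not at hcon
    obtain ⟨k, hk, hkr⟩ := hstep (I := {x | ∃ n : ℕ, (τ ^ n) i = x}) (fun e => by
      have : j ∈ {x | ∃ n : ℕ, (τ ^ n) i = x} := e ▸ Set.mem_univ j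
      obtain ⟨n, hn⟩ := this
      exact hcon n hn) ⟨i, 0, rfl⟩
    obtain ⟨n, hn⟩ := hk
    refine ht k (hkr (t k) ⟨n + 1, ?_⟩)
    rw [pow_succ', Equiv.Perm.mul_apply, hn, hτt]
  · change σ (t i) = t (σ i)
    exact f3 (σ i) _ _ (fun hr => ht i (hcj' hg hr)) (ht (σ i))

end core

section reg

variable {ι : Type*} {P : Equiv.Perm ι → Prop} {τ : Equiv.Perm ι}

/-- a permutation commuting with a transitive `τ` which has a fixed point is trivial -/
theorem eq_of_fix (hτ : ∀ i j, ∃ n : ℕ, (τ ^ n) i = j) {σ : Equiv.Perm ι} (hσ : ∀ i, σ (τ i) = τ (σ i)) {i : ι}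
    (hi : σ i = i) (j : ι) : σ j = j := by
  obtain ⟨n, rfl⟩ := hτ i j
  induction n with
  | zero => exact hi
  | succ n ih => rw [pow_succ', Equiv.Perm.mul_apply, hσ, ih]

theorem comm_pow {σ : Equiv.Perm ι} (hσ : ∀ i, σ (τ i) = τ (σ i)) (n : ℕ) (i : ι) :
    σ ((τ ^ n) i) = (τ ^ n) (σ i) := by
  induction n with
  | zero => rfl
  | succ n ih => rw [pow_succ', Equiv.Perm.mul_apply, hσ, ih, Equiv.Perm.mul_apply]

/-- the permutations commuting with a transitive `τ` commute -/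
theorem comm_of (hτ : ∀ i j, ∃ n : ℕ, (τ ^ n) i = j) {σ σ' : Equiv.Perm ι} (hσ : ∀ i, σ (τ i) = τ (σ i))
    (hσ' : ∀ i, σ' (τ i) = τ (σ' i)) (i : ι) : σ (σ' i) = σ' (σ i) := by
  obtain ⟨a, ha⟩ := hτ i (σ i)
  obtain ⟨b, hb⟩ := hτ i (σ' i)
  rw [← hb, comm_pow hσ, ← ha, comm_pow hσ', ← hb, ← Equiv.Perm.mul_apply, ← Equiv.Perm.mul_apply, ← pow_add,
    ← pow_add, add_comm]

end reg

end Cfsg.Agent.Omega.ESym.CoreT

end

section


/-!
# THEOREM S''T (helper164 #27334): the abstract core of THEOREM S'' without the hypothesis `sw`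

* `CoreR` : the hypotheses of `CoreS.Core` without `sw`;
* `CoreR.step` : for every proper nonempty `I` some `j ∈ I` has `Y j ≤ N(N i N j)` for all `i ∈ I`;
* `CoreR.local_of_fix` : if some symmetry fixes one pair and moves another one, the `Y j` normalise a common nontrivial
  2-group;
* `CoreR.local_or_cyc` : or there is a permutation `τ` of the pairs, transitive, which commutes with all symmetries;
  `CoreR.local_or_comm` : or the symmetries commute and act semiregularly.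
-/

set_option autoImplicit false
set_option linter.unusedSectionVars false
set_option linter.dupNamespace false

namespace Cfsg.Agent.Omega.ESym.CoreR

open Subgroup Cfsg Cfsg.Agent.ZN Cfsg.Agent.ZN.ChoiceBase
open Cfsg.Agent.Omega.NO3S.EThree
open Cfsg.Agent.Omega.NO3S.EThree.ExactA (eab_mono eab_sup eab_iff)
open Cfsg.Agent.Omega.EK3.Rank (NoOn mem_inf_of_mem_AA jj_inf_le offd_of_mem)
open Cfsg.Agent.Omega.EK3.Lever (Dt)
open Cfsg.Agent.Omega.ESym.CoreS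
open scoped commutatorElement

universe u

variable {G : Type u} [Group G]

/-- **The hypotheses of THEOREM S'' without `sw`.** -/
structure CoreR {ι : Type*} (O D ZJ : Subgroup G) (Y N : ι → Subgroup G) : Prop where
  two : IsPGroup 2 O
  OY : ∀ i, O ≤ Y i
  OZ : O ≤ centralizer (ZJ : Set G)
  DY : ∀ i, D ≤ Y i
  /-- at least three light pairs -/
  three : ∀ i j : ι, ∃ l, l ≠ i ∧ l ≠ j
  ne : Nonempty ι
  /-- `E_I` is elementary abelian and `≤ O` for proper `I` -/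
  eab : ∀ I : Set ι, I ≠ Set.univ → IsElementaryAbelian 2 (EI ZJ Y I : Subgroup G) ∧ EI ZJ Y I ≤ O
  NE : ∀ i, N i ≤ EI ZJ Y {i}
  YN : ∀ i, Y i ≤ normalizer (N i : Set G)
  YQ : ∀ i, Y i ≤ normalizer ((O ⊓ centralizer (N i : Set G) : Subgroup G) : Set G)
  no : ∀ i, NoOn O (N i)
  /-- QP (LEMMA G'': some subgroup of `K ⊓ O` moves `N j`) -/
  gen : ∀ j, ∀ K : Subgroup G, K ≤ Y j → Y j ≤ normalizer (K : Set G) → ¬ K ⊓ O ≤ centralizer (N j : Set G) →
    Y j ≤ K ⊔ D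
  tr : ∀ i j, ∃ g, ∃ σ : Equiv.Perm ι, Sy O Y N g σ ∧ σ i = j

section core

variable [Finite G] {ι : Type*} {O D ZJ : Subgroup G} {Y N : ι → Subgroup G} (h : CoreR O D ZJ Y N)
include h

theorem CoreR.N_le_EI {I : Set ι} {i : ι} (hi : i ∈ I) : N i ≤ EI ZJ Y I :=
  (h.NE i).trans (EI_mono (Set.singleton_subset_iff.2 hi))

theorem CoreR.ne_univ (i : ι) : ({i} : Set ι) ≠ Set.univ := by
  obtain ⟨l, hl, -⟩ := h.three i i
  intro e
  have : l ∈ ({i} : Set ι) := e ▸ Set.mem_univ l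
  exact hl this

theorem CoreR.N_eab (i : ι) : IsElementaryAbelian 2 (N i : Subgroup G) :=
  eab_mono (h.eab _ (h.ne_univ i)).1 (h.NE i)

theorem CoreR.N_le_O (i : ι) : N i ≤ O := (h.NE i).trans (h.eab _ (h.ne_univ i)).2

/-- (1) either the conclusion, or `J(O)` moves every `N j` -/
theorem CoreR.moves (hO : O ≠ ⊥) :
    (∃ R : Subgroup G, R ≠ ⊥ ∧ IsPGroup 2 R ∧ ∀ j, Y j ≤ normalizer (R : Set G)) ∨
      ∀ j, ∃ A ∈ AA O, ¬ A ≤ centralizer (N j : Set G) := by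
  by_cases hc : ∀ j, ∃ A ∈ AA O, ¬ A ≤ centralizer (N j : Set G)
  · exact Or.inr hc
  left
  push Not at hc
  obtain ⟨j, hj⟩ := hc
  have e : jj O = jj (O ⊓ centralizer (N j : Set G)) := by
    refine le_antisymm ?_ (jj_inf_le (h.N_eab j) (h.N_le_O j) (h.no j))
    rw [ChoiceBase.jj_eq O]
    exact sSup_le fun A hA => ChoiceBase.le_jj (mem_inf_of_mem_AA (h.N_eab j) (h.N_le_O j) (h.no j) hA (hj A hA))
  have h1 : Y j ≤ normalizer (jj O : Set G) := by
    rw [e]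
    exact (h.YQ j).trans (jj_norm _)
  refine ⟨jj O, jj_ne_bot h.two hO, h.two.to_le (ChoiceBase.jj_le O), fun i => ?_⟩
  obtain ⟨g, σ, hg, hσ⟩ := h.tr j i
  have h2 := cj_mono g h1
  rwa [hg.Y_eq, hσ, cj_normalizer, ← jj_cj, hg.O_eq] at h2

/-- (2), (3): for every proper nonempty `I` some `j ∈ I` has `Y j ≤ N(N i N j)` for all `i ∈ I`. -/
theorem CoreR.step (hm : ∀ j, ∃ A ∈ AA O, ¬ A ≤ centralizer (N j : Set G)) {I : Set ι} (hI : I ≠ Set.univ)
    (hne : I.Nonempty) : ∃ j ∈ I, ∀ i ∈ I, Y j ≤ normalizer ((N i ⊔ N j : Subgroup G) : Set G) := by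
  obtain ⟨j0, hj0⟩ := hne
  obtain ⟨A, hA, hAm⟩ := hm j0
  obtain ⟨hE, hEO⟩ := h.eab I hI
  have hOE : O ≤ normalizer (EI ZJ Y I : Set G) := (h.OY j0).trans (EI_norm hj0)
  have hoff : Offd (EI ZJ Y I) A :=
    offd_of_mem hE hEO hA (hA.2.1.trans hOE) (h.N_le_EI hj0) hAm
  have hdt : Dt O (EI ZJ Y I) ZJ (fun i : I => Y i) (fun i : I => N i) := by
    refine ⟨(eab_iff.1 hE).1, fun i => h.OY i, fun i => EI_norm i.2, h.OZ, le_rfl, fun i => h.N_le_EI i.2,
      fun i => h.YN i, fun i => h.YQ i, fun i F hF hFO => h.no i F hF hFO⟩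
  obtain ⟨j, F, hFO, hFe, hFm, hF⟩ := hdt.lever hA.2.1 hA.1 hoff
  refine ⟨j, j.2, fun i hi => ?_⟩
  let K : Subgroup G := ⨆ y : Y j, cj (y : G) F
  have hFY : F ≤ Y j := hFO.trans (h.OY j)
  have hFK : F ≤ K := by
    have := le_iSup (fun y : Y j => cj (y : G) F) 1
    simpa only [OneMemClass.coe_one, cj_one] using this
  have hKY : K ≤ Y j := iSup_le fun y => by
    have := cj_mono (y : G) hFY
    rwa [cj_eq_of_mem_normalizer (Subgroup.le_normalizer y.2)] at this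
  have hYK : Y j ≤ normalizer (K : Set G) := by
    intro y hy
    refine mem_norm_of_le ?_
    change cj y (⨆ x : Y j, cj (x : G) F) ≤ _
    rw [cj, Subgroup.map_iSup]
    refine iSup_le fun x => ?_
    have e : Subgroup.map (MulAut.conj y).toMonoidHom (cj (x : G) F) = cj (y * x : G) F := cj_cj y x F
    rw [e]
    exact le_iSup (fun x : Y j => cj (x : G) F) ⟨y * x, mul_mem hy x.2⟩
  have hKm : ¬ K ⊓ O ≤ centralizer (N j : Set G) := fun hc => hFm ((le_inf hFK hFO).trans hc)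
  have hKN : K ≤ normalizer ((N i ⊔ N j : Subgroup G) : Set G) := by
    refine iSup_le fun y => ?_
    intro x hx
    refine mem_norm_of_le ?_
    rw [cj, Subgroup.map_sup]
    have hxY : x ∈ Y j := hKY (le_iSup (fun y : Y j => cj (y : G) F) y hx)
    refine sup_le ?_ ?_
    · rintro _ ⟨n, hn, rfl⟩
      change x * n * x⁻¹ ∈ _
      obtain ⟨f, hf, e⟩ := hx
      have e' : x = (y : G) * f * (y : G)⁻¹ := by rw [← e]; rfl
      have hnE : n ∈ EI ZJ Y I := h.N_le_EI hi hn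
      have hn' : (y : G)⁻¹ * n * y ∈ EI ZJ Y I := by
        have := (mem_normalizer_iff.1 (EI_norm j.2 (inv_mem y.2)) n).1 hnE
        rwa [inv_inv] at this
      have h1 := hF _ hn' f hf
      have h2 : (y : G) * ⁅(y : G)⁻¹ * n * y, f⁆ * (y : G)⁻¹ ∈ N j :=
        (mem_normalizer_iff.1 (h.YN j y.2) _).1 h1
      have h3 : ⁅n, x⁆ = (y : G) * ⁅(y : G)⁻¹ * n * y, f⁆ * (y : G)⁻¹ := by
        rw [e']
        simp only [commutatorElement_def]
        group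
      have h4 : x * n * x⁻¹ = ⁅n, x⁆⁻¹ * n := by
        simp only [commutatorElement_def]
        group
      rw [h4]
      exact mul_mem (inv_mem (mem_sup_right (by rw [h3]; exact h2))) (mem_sup_left hn)
    · have h1 := cj_eq_of_mem_normalizer (h.YN j hxY)
      exact (le_of_eq h1).trans le_sup_right
  have hDN : D ≤ normalizer ((N i ⊔ N j : Subgroup G) : Set G) := by
    intro x hx
    refine mem_norm_of_le ?_
    rw [cj, Subgroup.map_sup]
    exact sup_le_sup (cj_eq_of_mem_normalizer (h.YN i (h.DY i hx))).le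
      (cj_eq_of_mem_normalizer (h.YN j (h.DY j hx))).le
  exact (h.gen j K hKY hYK hKm).trans (sup_le hKN hDN)

/-- `j → i` : `Y j ≤ N(N i N j)` -/
def Rl (Y N : ι → Subgroup G) (j i : ι) : Prop := Y j ≤ normalizer ((N i ⊔ N j : Subgroup G) : Set G)

omit h [Finite G] in
theorem rl_iff {g : G} {σ : Equiv.Perm ι} (hg : Sy O Y N g σ) {j i : ι} :
    Rl Y N (σ j) (σ i) ↔ Rl Y N j i := by
  constructor
  · intro hr
    have h1 := hg.inv.conj_rel (i := σ i) (j := σ j) hr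
    rwa [CoreS.inv_l σ i, CoreS.inv_l σ j] at h1
  · intro hr
    exact hg.conj_rel hr

/-- every `j` misses at most one point -/
theorem CoreR.miss (hm : ∀ j, ∃ A ∈ AA O, ¬ A ≤ centralizer (N j : Set G)) :
    ∀ j a b, ¬ Rl Y N j a → ¬ Rl Y N j b → a = b := by
  obtain ⟨l⟩ := h.ne
  obtain ⟨l', hl', -⟩ := h.three l l
  obtain ⟨j₀, -, hj⟩ := h.step hm (I := {l}ᶜ) (fun e => by
    have : l ∈ ({l}ᶜ : Set ι) := e ▸ Set.mem_univ l
    exact this rfl) ⟨l', hl'⟩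
  have h0 : ∀ a, ¬ Rl Y N j₀ a → a = l := fun a ha => by
    by_contra hal
    exact ha (hj a hal)
  intro j a b ha hb
  obtain ⟨g, σ, hg, hσ⟩ := h.tr j j₀
  have h1 : ∀ c, ¬ Rl Y N j c → σ c = l := fun c hc => h0 _ fun hr => hc (by
    rw [← hσ] at hr
    exact (rl_iff hg).1 hr)
  exact σ.injective ((h1 a ha).trans (h1 b hb).symm)

/-- the end: one `j → i` for all `i` -/
theorem CoreR.local_of_all (hm : ∀ j, ∃ A ∈ AA O, ¬ A ≤ centralizer (N j : Set G)) {j : ι}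
    (hall : ∀ i, Rl Y N j i) :
    ∃ R : Subgroup G, R ≠ ⊥ ∧ IsPGroup 2 R ∧ ∀ j, Y j ≤ normalizer (R : Set G) := by
  have hall' : ∀ i k, Y k ≤ normalizer ((N i ⊔ N k : Subgroup G) : Set G) := by
    intro i k
    obtain ⟨g, σ, hg, hσ⟩ := h.tr j k
    have h1 := hg.conj_rel (hall (σ⁻¹ i))
    rwa [inv_r σ i, hσ] at h1
  refine ⟨⨆ i, N i, ?_, h.two.to_le (iSup_le h.N_le_O), fun k => ?_⟩
  · obtain ⟨A, -, hA⟩ := hm j
    intro e
    apply hA
    have h1 : N j = ⊥ := eq_bot_iff.2 ((le_iSup N j).trans e.le)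
    rw [h1]
    intro x _
    rw [mem_centralizer_iff]
    intro y hy
    rw [SetLike.mem_coe, mem_bot] at hy
    rw [hy, one_mul, mul_one]
  · intro x hx
    refine mem_norm_of_le ?_
    rw [cj, Subgroup.map_iSup]
    refine iSup_le fun i => ?_
    have h1 : cj x (N i) ≤ N i ⊔ N k := by
      refine (cj_mono x (le_sup_left (b := N k))).trans ?_
      exact (cj_eq_of_mem_normalizer (hall' i k hx)).le
    exact h1.trans (sup_le (le_iSup N i) (le_iSup N k))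

/-- **one symmetry which fixes a pair and moves another one is enough.** -/
theorem CoreR.local_of_fix (hO : O ≠ ⊥)
    (sw : ∃ g, ∃ σ : Equiv.Perm ι, Sy O Y N g σ ∧ ∃ i₀ j₀, σ i₀ = i₀ ∧ σ j₀ ≠ j₀) :
    ∃ R : Subgroup G, R ≠ ⊥ ∧ IsPGroup 2 R ∧ ∀ j, Y j ≤ normalizer (R : Set G) := by
  rcases h.moves hO with h1 | hm
  · exact h1
  obtain ⟨g, σ, hg, i₀, j₀, hi, hj⟩ := sw
  obtain ⟨j, hjI, hj'⟩ := h.step hm (I := {l | σ l = l}) (fun e => by
    have : j₀ ∈ {l | σ l = l} := e ▸ Set.mem_univ j₀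
    exact hj this) ⟨i₀, hi⟩
  refine h.local_of_all hm (j := j) fun i => ?_
  by_contra hc
  have h2 : ¬ Rl Y N j (σ i) := fun hr => hc (by
    have e : σ j = j := hjI
    rw [← e] at hr
    exact (rl_iff hg).1 hr)
  have h3 : σ i = i := h.miss hm j _ _ h2 hc
  exact hc (hj' i h3)

/-- **or the permutation `τ`.** -/
theorem CoreR.local_or_cyc [Finite ι] (hO : O ≠ ⊥) :
    (∃ R : Subgroup G, R ≠ ⊥ ∧ IsPGroup 2 R ∧ ∀ j, Y j ≤ normalizer (R : Set G)) ∨
      ∃ τ : Equiv.Perm ι, (∀ (g : G) (σ : Equiv.Perm ι), Sy O Y N g σ → ∀ j, σ (τ j) = τ (σ j)) ∧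
        ∀ I : Set ι, I.Nonempty → (∀ j ∈ I, τ j ∈ I) → I = Set.univ := by
  rcases h.moves hO with h1 | hm
  · exact Or.inl h1
  by_cases hc : ∃ j, ∀ i, Rl Y N j i
  · obtain ⟨j, hj⟩ := hc
    exact Or.inl (h.local_of_all hm hj)
  right
  push Not at hc
  choose τ hτ using hc
  have huni : ∀ j a, ¬ Rl Y N j a → a = τ j := fun j a ha => h.miss hm j _ _ ha (hτ j)
  have hcl : ∀ I : Set ι, I.Nonempty → (∀ j ∈ I, τ j ∈ I) → I = Set.univ := by
    intro I hne hI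
    by_contra hu
    obtain ⟨j, hj, hj'⟩ := h.step hm hu hne
    exact hτ j (hj' _ (hI j hj))
  have hsur : Function.Surjective τ := by
    obtain ⟨l⟩ := h.ne
    have h1 := hcl (Set.range τ) ⟨τ l, l, rfl⟩ (fun j _ => ⟨j, rfl⟩)
    exact Set.range_eq_univ.1 h1
  have hbij : Function.Bijective τ := (Finite.surjective_iff_bijective).1 hsur
  refine ⟨Equiv.ofBijective τ hbij, fun g σ hg j => ?_, hcl⟩
  exact huni _ _ fun hr => hτ j ((rl_iff hg).1 hr)

omit h [Finite G] in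
/-- permutations which commute with a transitive permutation: they are its powers -/
theorem eq_pow {τ σ : Equiv.Perm ι} (hc : ∀ j, σ (τ j) = τ (σ j))
    (ht : ∀ I : Set ι, I.Nonempty → (∀ j ∈ I, τ j ∈ I) → I = Set.univ) (i : ι) :
    ∃ k : ℕ, ∀ j, σ j = (τ ^ k) j := by
  have hall : ∀ j, ∃ m : ℕ, (τ ^ m) i = j := by
    intro j
    have h1 := ht {j | ∃ m : ℕ, (τ ^ m) i = j} ⟨i, 0, rfl⟩ (fun j ⟨m, hm⟩ => ⟨m + 1, by
      rw [pow_succ', Equiv.Perm.mul_apply, hm]⟩)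
    have h2 : j ∈ {j | ∃ m : ℕ, (τ ^ m) i = j} := by rw [h1]; trivial
    exact h2
  have hcp : ∀ (m : ℕ) j, σ ((τ ^ m) j) = (τ ^ m) (σ j) := by
    intro m
    induction m with
    | zero => intro j; rfl
    | succ m ih =>
      intro j
      rw [pow_succ', Equiv.Perm.mul_apply, hc, ih, Equiv.Perm.mul_apply]
  obtain ⟨k, hk⟩ := hall (σ i)
  refine ⟨k, fun j => ?_⟩
  obtain ⟨m, rfl⟩ := hall j
  rw [hcp, ← hk, ← Equiv.Perm.mul_apply, ← Equiv.Perm.mul_apply, ← pow_add, ← pow_add, add_comm]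

/-- **or the symmetries commute and act semiregularly.** -/
theorem CoreR.local_or_comm [Finite ι] (hO : O ≠ ⊥) :
    (∃ R : Subgroup G, R ≠ ⊥ ∧ IsPGroup 2 R ∧ ∀ j, Y j ≤ normalizer (R : Set G)) ∨
      (∀ (g g' : G) (σ σ' : Equiv.Perm ι), Sy O Y N g σ → Sy O Y N g' σ' → σ * σ' = σ' * σ) ∧
        ∀ (g : G) (σ : Equiv.Perm ι), Sy O Y N g σ → ∀ i, σ i = i → σ = 1 := by
  rcases h.local_or_cyc hO with h1 | ⟨τ, hτ, ht⟩
  · exact Or.inl h1
  right
  obtain ⟨i₀⟩ := h.ne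
  refine ⟨fun g g' σ σ' hg hg' => ?_, fun g σ hg i hi => ?_⟩
  · obtain ⟨k, hk⟩ := eq_pow (hτ g σ hg) ht i₀
    obtain ⟨k', hk'⟩ := eq_pow (hτ g' σ' hg') ht i₀
    have e : σ = τ ^ k := Equiv.ext hk
    have e' : σ' = τ ^ k' := Equiv.ext hk'
    rw [e, e', ← pow_add, ← pow_add, add_comm]
  · have h1 := ht {j | σ j = j} ⟨i, hi⟩ (fun j (hj : σ j = j) => by
      show σ (τ j) = τ j
      rw [hτ g σ hg, hj])
    refine Equiv.ext fun j => ?_
    have h2 : j ∈ {j | σ j = j} := by rw [h1]; trivial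
    exact h2

end core

end Cfsg.Agent.Omega.ESym.CoreR

end
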